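/-
The presented Fischer group, and the numbering of its generators.
-/
import Cfsg.Agent.Lib.Spor.TC.Cox
import Cfsg.Agent.Lib.Spor.Fi22.Rels
import Cfsg.Prelude.Def_Spor_Fi22

namespace CfsgLib.Spor.Fi22

open CfsgLib.Spor.TC

/-- The number of a generator. -/
def num : Cfsg.Spor.Fi22.Gen → ℕ
  | .a => 0 | .b => 1 | .c => 2 | .d => 3 | .e => 4 | .f => 5 | .g => 6 | .h => 7 | .i => 8

/-- The generator of a number. -/
def nam : ℕ → Cfsg.Spor.Fi22.Gen
  | 0 => .a | 1 => .b | 2 => .c | 3 => .d | 4 => .e | 5 => .f | 6 => .g | 7 => .h | _ => .i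

/-- The further relators as words. -/
def more : List PowRel :=
  [([3, 2, 1, 3, 4, 5, 3, 7, 8], 10), ([0, 1, 2, 3, 4, 5, 7], 9), ([1, 2, 3, 4, 5, 6, 7], 9)]

/-- The numbered presentation. -/
def coxData : CoxData Cfsg.Spor.Fi22.edges Cfsg.Spor.Fi22.extra where
  k := 9
  num := num
  nam := nam
  num_lt a := by cases a <;> decide
  nam_num a := by cases a <;> rfl
  num_nam x hx := by interval_cases x <;> rfl
  nodes a := by cases a <;> decide
  more := more
  more_iff g f hg hf := by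
    simp only [more, Cfsg.Spor.Fi22.extra, List.forall_mem_cons, List.not_mem_nil, false_implies, implies_true,
      and_true, map_mul, map_pow, hf, num, ev, List.map_cons, List.map_nil, List.prod_cons, List.prod_nil, mul_one]
    simp only [mul_assoc]

theorem rels_eq : coxData.rels = relsG := by decide +kernel

theorem exists_equiv_gen : ∃ e : Pres 9 relsG ≃* Cfsg.Spor.Fi22,
    ∀ a, e (presGen 9 relsG (num a)) = PresentedGroup.of a := by
  rw [← rels_eq]
  exact ⟨coxData.equiv, coxData.equiv_gen⟩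

theorem gens_bcdefghi : ({Cfsg.Spor.Fi22.b, Cfsg.Spor.Fi22.c, Cfsg.Spor.Fi22.d, Cfsg.Spor.Fi22.e, Cfsg.Spor.Fi22.f,
    Cfsg.Spor.Fi22.g, Cfsg.Spor.Fi22.h, Cfsg.Spor.Fi22.i} : Set (FreeGroup Cfsg.Spor.Fi22.Gen)) =
    (fun x => FreeGroup.of (coxData.nam x)) '' {x | x ∈ [1, 2, 3, 4, 5, 6, 7, 8]} := by
  ext x; simp [coxData, nam, eq_comm]

end CfsgLib.Spor.Fi22
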