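/-
Order and simplicity of the presented Fischer group, from its action on `3510` transpositions.
-/
import Cfsg.Agent.Lib.Spor.TC.Cosets
import Cfsg.Agent.Lib.Spor.Fi22.Cox
import Cfsg.Agent.Lib.Spor.Fi22.CQ.All
import Cfsg.Agent.Lib.Spor.Fi22.CD.All
import Cfsg.Agent.Lib.Spor.Fi22.CE.All
import Cfsg.Agent.Lib.Spor.Fi22.CM.All
import Cfsg.Agent.Lib.Spor.Fi22.CO.All
import Cfsg.Agent.Lib.Spor.Fi22.CG.All
import Cfsg.Agent.Lib.Spor.Fi22.Perfect.All
import Cfsg.Agent.Lib.Spor.Fi22.Gen.All
import Cfsg.Agent.Lib.Spor.Fi22.ActH.All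

namespace CfsgLib.Spor.Fi22

open CfsgLib.Spor.TC MulAction


theorem card_o7_le : Nat.card (Pres 8 relsO) ≠ 0 ∧ Nat.card (Pres 8 relsO) ≤ 4585351680 := by
  have hD := CD.cosetCert.card_le (rels' := relsQ) (l := 4) (by decide) (by decide +kernel) CQ.cosetCert.card_le_bot
  have hE := CE.cosetCert.card_le (rels' := relsD) (l := 5) (by decide) (by decide +kernel) hD
  have hM := CM.cosetCert.card_le (rels' := relsE) (l := 6) (by decide) (by decide +kernel) hE
  exact CO.cosetCert.card_le (rels' := relsM) (l := 7) (by decide) (by decide +kernel) hM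

theorem card_fi22 : Nat.card (Pres 9 relsG) = 64561751654400 := by
  have h := CG.cosetCert.card_le (rels' := relsO) (l := 8) (by decide) (by decide +kernel) card_o7_le
  refine le_antisymm (h.2.trans (by decide +kernel)) ?_
  refine le_trans (le_of_eq (by decide +kernel : (64561751654400 : ℕ) = levelsProd ActH.bases)) ?_
  exact card_pres_ge ActH.act ActH.valid ActH.bases_ok h.1

theorem index_o7 : (presSub 9 relsG [1, 2, 3, 4, 5, 6, 7, 8]).index = 14080 := by
  have hG := card_fi22
  have h := Subgroup.index_mul_card (presSub 9 relsG [1, 2, 3, 4, 5, 6, 7, 8])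
  rw [hG] at h
  refine le_antisymm CG.cosetCert.index_le.2 ?_
  have hO : Nat.card (presSub 9 relsG [1, 2, 3, 4, 5, 6, 7, 8]) ≤ 4585351680 := by
    have hrel : ∀ r ∈ relsO, (r.1.map fun x => [1, 2, 3, 4, 5, 6, 7, 8].getD x 9, r.2) ∈ relsG := by decide +kernel
    rw [← range_subHom (k := 9) (rels := relsG) (rels' := relsO) (emb := [1, 2, 3, 4, 5, 6, 7, 8]) hrel]
    haveI := Nat.finite_of_card_ne_zero card_o7_le.1
    exact (Nat.card_le_card_of_surjective _ (MonoidHom.rangeRestrict_surjective _)).trans card_o7_le.2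
  by_contra hlt
  have h2 := Nat.mul_le_mul (Nat.le_pred_of_lt (Nat.lt_of_not_le hlt)) hO
  rw [h] at h2
  exact absurd h2 (by decide +kernel)

/-- The word of the ninth generator of `2·U₆(2)`. -/
def wordW : List ℕ :=
  [0, 1, 2, 3, 4, 7, 0, 1, 2, 3, 4, 7, 0, 1, 2, 3, 4, 7, 0, 1, 2, 3, 4, 7, 0, 1, 2, 3, 4, 7]

/-- The letters of generators of the centralizer of a transposition. -/
def gensH : List ℕ := [0, 2, 3, 4, 5, 6, 7, 8, 9]

/-- `2·U₆(2)` in the numbered group. -/
def subH : Subgroup (Pres ActH.act.k relsG) :=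
  Subgroup.closure (ActH.act.letters relsG '' {x | x ∈ gensH})

theorem letter_nine : ActH.act.letters relsG 9 = ev (presGen ActH.act.k relsG) wordW := by
  refine (extend_def ActH.act.defs (presGen ActH.act.k relsG) ActH.valid.below 0 wordW rfl).trans ?_
  exact ev_congr fun x hx => extend_of_lt _ _ (show x < ActH.act.k from (by decide : ∀ y ∈ wordW, y < 9) x hx)

theorem subH_index_le : subH.index ≠ 0 ∧ subH.index ≤ 3510 := by
  refine Cert.index_le_pres CH.steps_ok CH.rows_ok CH.row_zero (by decide) rfl (by decide +kernel) _ ?_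
  have hmem : ∀ x ∈ gensH, ActH.act.letters relsG x ∈ subH := fun x hx => Subgroup.subset_closure ⟨x, hx, rfl⟩
  have hsingle : ∀ x, x < 9 → x ∈ gensH → ev (presGen ActH.act.k relsG) [x] ∈ subH := fun x hx hm => by
    rw [show ev (presGen ActH.act.k relsG) [x] = presGen ActH.act.k relsG x by simp [ev]]
    have e := Act.letters_of_lt (A := ActH.act) (rels := relsG) (show x < ActH.act.k from hx)
    exact e ▸ hmem x hm
  have hw : ev (presGen ActH.act.k relsG) wordW ∈ subH := letter_nine ▸ hmem 9 (by decide)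
  intro w hwm
  simp only [CH.cert, CH.subs, List.mem_cons, List.not_mem_nil, or_false] at hwm
  rcases hwm with rfl | rfl | rfl | rfl | rfl | rfl | rfl | rfl | rfl
  all_goals first
    | exact hsingle _ (by decide) (by decide)
    | exact hw

/-- The action on the `3510` cosets. -/
@[reducible] noncomputable def actionH : MulAction (Pres ActH.act.k relsG) (Fin ActH.act.n) := ActH.valid.action

attribute [local instance] actionH

theorem exists_suborbitsH :
    ∃ S : Suborbits (Pres ActH.act.k relsG) subH (Fin ActH.act.n) 3, (S.a : ℕ) = 0 ∧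
      (S.size 0 = 1 ∧ S.size 1 = 2816 ∧ S.size 2 = 693) ∧ S.rep 0 = S.a := by
  obtain ⟨S, h0, hsz, hrep⟩ := exists_suborbits (g := ActH.act.letters relsG)
    (fun x hx c => ActH.valid.action_apply hx c) ActH.top ActH.top_ok rfl rfl gensH subH rfl ActH.parts
    ActH.parts_ok subH_index_le
  exact ⟨S, h0, ⟨(hsz ⟨0, by decide⟩).trans rfl, (hsz ⟨1, by decide⟩).trans rfl, (hsz ⟨2, by decide⟩).trans rfl⟩,
    hrep ⟨0, by decide⟩ rfl⟩

theorem card_act : Nat.card (Pres ActH.act.k relsG) = 64561751654400 := card_fi22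

theorem rho_injective : Function.Injective ActH.valid.rho := by
  haveI : Finite (Pres ActH.act.k relsG) := Nat.finite_of_card_ne_zero (ne_of_eq_of_ne card_act (by decide))
  have h2 : levelsProd ActH.bases ≤ Nat.card ActH.valid.rho.range :=
    card_ge_of_levels ActH.act ActH.valid ActH.bases [] _ ActH.bases_ok
      fun _ _ y _ _ => ⟨_, ActH.valid.rho_letters y⟩
  have h3 : Function.Bijective ActH.valid.rho.rangeRestrict :=
    ActH.valid.rho.rangeRestrict_surjective.bijective_of_nat_card_le
      (le_trans (le_of_eq (card_act.trans (by decide +kernel : (64561751654400 : ℕ) = levelsProd ActH.bases))) h2)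
  exact fun u v e => h3.1 (Subtype.ext e)

set_option maxHeartbeats 4000000 in
theorem sameOK_wordW : ActH.act.sameOK (wordW ++ [0]) ([0] ++ wordW) = true := by decide +kernel

set_option maxHeartbeats 4000000 in
theorem sameOK_gens :
    ∀ y ∈ gensH, y = 9 ∨ (y < 9 ∧ ActH.act.sameOK ([y] ++ [0]) ([0] ++ [y]) = true) := by decide +kernel

theorem commute_gen {s : ℕ} (hs : s ∈ gensH) :
    ActH.act.letters relsG s * presGen ActH.act.k relsG 0 = presGen ActH.act.k relsG 0 * ActH.act.letters relsG s := by
  have key : ∀ w : List ℕ, ActH.act.letters relsG s = ev (presGen ActH.act.k relsG) w →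
      ActH.act.sameOK (w ++ [0]) ([0] ++ w) = true →
      ActH.act.letters relsG s * presGen ActH.act.k relsG 0 =
        presGen ActH.act.k relsG 0 * ActH.act.letters relsG s := by
    intro w hw hok
    have h1 := rho_injective (ActH.valid.rho_eq hok)
    rw [ev_append, ev_append, ← hw] at h1
    simpa [ev] using h1
  by_cases h9 : s = 9
  · subst h9
    exact key wordW letter_nine sameOK_wordW
  · obtain ⟨hlt, hok⟩ := (sameOK_gens s hs).resolve_left h9
    refine key [s] ?_ hok
    rw [Act.letters_of_lt (show s < ActH.act.k from hlt)]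
    simp [ev]

theorem commute_subH {y : Pres ActH.act.k relsG} (hy : y ∈ subH) :
    y * presGen ActH.act.k relsG 0 = presGen ActH.act.k relsG 0 * y := by
  induction hy using Subgroup.closure_induction with
  | mem x hx =>
    obtain ⟨s, hs, rfl⟩ := hx
    exact commute_gen hs
  | one => rw [one_mul, mul_one]
  | mul u v _ _ hu hv => exact (Commute.mul_left hu hv : Commute (u * v) _)
  | inv u _ hu => exact Commute.inv_left (a := u) hu

theorem simple_act : IsSimpleGroup (Pres ActH.act.k relsG) := by
  obtain ⟨S, -, hsz, hrep⟩ := exists_suborbitsH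
  haveI : Finite (Pres ActH.act.k relsG) := Nat.finite_of_card_ne_zero (ne_of_eq_of_ne card_act (by decide))
  haveI : Nontrivial (Pres ActH.act.k relsG) := Finite.one_lt_card_iff_nontrivial.1 (lt_of_lt_of_eq (by decide) card_act.symm)
  refine S.isSimpleGroup_of_abelian (i₀ := 0) rfl hrep ?_ (fun u hu => rho_injective ?_)
    (commutator_eq_top_of_collapse Perfect.cosetCert) (Subgroup.zpowers (presGen ActH.act.k relsG 0)) ?_ ?_ fun K hK hUK => ?_
  · rw [Nat.card_fin, show S.size = fun i => [1, 2816, 693].get i from funext fun i => by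
      fin_cases i <;> simp [hsz.1, hsz.2.1, hsz.2.2]]
    decide +kernel
  · rw [map_one]
    exact Equiv.ext hu
  · rintro _ ⟨i, rfl⟩ _ ⟨j, rfl⟩
    exact ((Commute.refl _).zpow_zpow i j).eq
  · rintro y hy _ ⟨i, rfl⟩
    refine ⟨i, ?_⟩
    show presGen ActH.act.k relsG 0 ^ i = y * presGen ActH.act.k relsG 0 ^ i * y⁻¹
    rw [(Commute.zpow_right (a := y) (commute_subH hy) i).eq, mul_inv_cancel_right]
  · refine eq_top_of_collapse Gen.cosetCert K hK fun p hp => ?_
    rw [List.mem_singleton.1 hp]
    have e : ev (presGen ActH.act.k relsG) [0] ^ 1 = presGen ActH.act.k relsG 0 := (pow_one _).trans (by simp [ev])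
    exact (show ev (presGen ActH.act.k relsG) [0] ^ 1 ∈ K from e.symm ▸ hUK (Subgroup.mem_zpowers _))

theorem simple_fi22 : IsSimpleGroup (Pres 9 relsG) := simple_act

end CfsgLib.Spor.Fi22
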