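/-
The presented Fischer group is simple of the order of `Fi₂₂`; two of its subgroups.
-/
import Cfsg.Agent.Lib.Spor.Fi22.Order
import Cfsg.Prelude.Def_Sporadic

namespace CfsgLib.Spor.Fi22

open CfsgLib.Spor.TC

theorem isFi22 : Cfsg.IsFi22 Cfsg.Spor.Fi22 := by
  obtain ⟨e, -⟩ := exists_equiv_gen
  haveI := simple_fi22
  exact ⟨e.symm.isSimpleGroup, by rw [← Nat.card_congr e.toEquiv]; exact card_fi22⟩

theorem index_bcdefghi :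
    ((Subgroup.closure ({Cfsg.Spor.Fi22.b, Cfsg.Spor.Fi22.c, Cfsg.Spor.Fi22.d, Cfsg.Spor.Fi22.e, Cfsg.Spor.Fi22.f,
      Cfsg.Spor.Fi22.g, Cfsg.Spor.Fi22.h, Cfsg.Spor.Fi22.i} : Set (FreeGroup Cfsg.Spor.Fi22.Gen))).map
      (PresentedGroup.mk (Cfsg.Spor.coxRelators Cfsg.Spor.Fi22.edges ∪ {r | r ∈ Cfsg.Spor.Fi22.extra}))).index
      = 14080 := by
  obtain ⟨e, he⟩ := coxData.exists_equiv (k := 9) rfl rels_eq
  rw [← he [1, 2, 3, 4, 5, 6, 7, 8] _ gens_bcdefghi (by decide)]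
  exact (Subgroup.index_map_equiv (e := e) _).trans index_o7

theorem map_subH (e : Pres ActH.act.k relsG ≃* Cfsg.Spor.Fi22)
    (he : ∀ a, e (presGen ActH.act.k relsG (num a)) = PresentedGroup.of a) :
    subH.map e.toMonoidHom =
      (Subgroup.closure ({Cfsg.Spor.Fi22.a, Cfsg.Spor.Fi22.c, Cfsg.Spor.Fi22.d, Cfsg.Spor.Fi22.e, Cfsg.Spor.Fi22.f,
        Cfsg.Spor.Fi22.g, Cfsg.Spor.Fi22.h, Cfsg.Spor.Fi22.i,
        (Cfsg.Spor.Fi22.a * Cfsg.Spor.Fi22.b * Cfsg.Spor.Fi22.c * Cfsg.Spor.Fi22.d * Cfsg.Spor.Fi22.e *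
          Cfsg.Spor.Fi22.h) ^ 5} : Set (FreeGroup Cfsg.Spor.Fi22.Gen))).map
        (PresentedGroup.mk (Cfsg.Spor.coxRelators Cfsg.Spor.Fi22.edges ∪ {r | r ∈ Cfsg.Spor.Fi22.extra})) := by
  have hgen : ∀ x, x < 9 → e (ActH.act.letters relsG x) = PresentedGroup.of (nam x) := fun x hx => by
    have h := he (nam x)
    rw [show num (nam x) = x from coxData.num_nam x hx] at h
    rw [Act.letters_of_lt (show x < ActH.act.k from hx)]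
    exact h
  have hnine : e (ActH.act.letters relsG 9) = PresentedGroup.mk _
      ((Cfsg.Spor.Fi22.a * Cfsg.Spor.Fi22.b * Cfsg.Spor.Fi22.c * Cfsg.Spor.Fi22.d * Cfsg.Spor.Fi22.e *
        Cfsg.Spor.Fi22.h) ^ 5) := by
    have h1 : wordW = powWord [0, 1, 2, 3, 4, 7] 5 := rfl
    rw [letter_nine, h1, ev_powWord, map_pow, map_pow]
    congr 1
    refine (map_ev e.toMonoidHom _ _).trans ?_
    show ev (fun x => e (presGen ActH.act.k relsG x)) [0, 1, 2, 3, 4, 7] = _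
    simp only [ev, List.map_cons, List.map_nil, List.prod_cons, List.prod_nil, mul_one, map_mul, mul_assoc]
    exact congrArg₂ (· * ·) (he .a) (congrArg₂ (· * ·) (he .b) (congrArg₂ (· * ·) (he .c)
      (congrArg₂ (· * ·) (he .d) (congrArg₂ (· * ·) (he .e) (he .h)))))
  rw [subH]
  erw [MonoidHom.map_closure, MonoidHom.map_closure]
  congr 1
  rw [Set.image_image]
  have hS : {x | x ∈ gensH} = ({0, 2, 3, 4, 5, 6, 7, 8, 9} : Set ℕ) := by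
    ext x; simp [gensH]
  rw [hS]
  simp only [Set.image_insert_eq, Set.image_singleton, MulEquiv.coe_toMonoidHom]
  rw [hnine, hgen 0 (by decide), hgen 2 (by decide), hgen 3 (by decide), hgen 4 (by decide), hgen 5 (by decide),
    hgen 6 (by decide), hgen 7 (by decide), hgen 8 (by decide)]
  rfl

theorem subH_orbits :
    ((Subgroup.closure ({Cfsg.Spor.Fi22.a, Cfsg.Spor.Fi22.c, Cfsg.Spor.Fi22.d, Cfsg.Spor.Fi22.e, Cfsg.Spor.Fi22.f,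
        Cfsg.Spor.Fi22.g, Cfsg.Spor.Fi22.h, Cfsg.Spor.Fi22.i,
        (Cfsg.Spor.Fi22.a * Cfsg.Spor.Fi22.b * Cfsg.Spor.Fi22.c * Cfsg.Spor.Fi22.d * Cfsg.Spor.Fi22.e *
          Cfsg.Spor.Fi22.h) ^ 5} : Set (FreeGroup Cfsg.Spor.Fi22.Gen))).map
        (PresentedGroup.mk (Cfsg.Spor.coxRelators Cfsg.Spor.Fi22.edges ∪ {r | r ∈ Cfsg.Spor.Fi22.extra}))).index
      = 3510 ∧
    ∀ n ∈ [693, 2816], ∃ q : Cfsg.Spor.Fi22 ⧸
      ((Subgroup.closure ({Cfsg.Spor.Fi22.a, Cfsg.Spor.Fi22.c, Cfsg.Spor.Fi22.d, Cfsg.Spor.Fi22.e, Cfsg.Spor.Fi22.f,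
        Cfsg.Spor.Fi22.g, Cfsg.Spor.Fi22.h, Cfsg.Spor.Fi22.i,
        (Cfsg.Spor.Fi22.a * Cfsg.Spor.Fi22.b * Cfsg.Spor.Fi22.c * Cfsg.Spor.Fi22.d * Cfsg.Spor.Fi22.e *
          Cfsg.Spor.Fi22.h) ^ 5} : Set (FreeGroup Cfsg.Spor.Fi22.Gen))).map
        (PresentedGroup.mk (Cfsg.Spor.coxRelators Cfsg.Spor.Fi22.edges ∪ {r | r ∈ Cfsg.Spor.Fi22.extra}))),
      (MulAction.orbit ((Subgroup.closure ({Cfsg.Spor.Fi22.a, Cfsg.Spor.Fi22.c, Cfsg.Spor.Fi22.d, Cfsg.Spor.Fi22.e,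
        Cfsg.Spor.Fi22.f, Cfsg.Spor.Fi22.g, Cfsg.Spor.Fi22.h, Cfsg.Spor.Fi22.i,
        (Cfsg.Spor.Fi22.a * Cfsg.Spor.Fi22.b * Cfsg.Spor.Fi22.c * Cfsg.Spor.Fi22.d * Cfsg.Spor.Fi22.e *
          Cfsg.Spor.Fi22.h) ^ 5} : Set (FreeGroup Cfsg.Spor.Fi22.Gen))).map
        (PresentedGroup.mk (Cfsg.Spor.coxRelators Cfsg.Spor.Fi22.edges ∪ {r | r ∈ Cfsg.Spor.Fi22.extra}))) q).ncard
        = n := by
  obtain ⟨e, he⟩ := exists_equiv_gen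
  letI := actionH
  obtain ⟨S, -, ⟨-, h1, h2⟩, -⟩ := exists_suborbitsH
  obtain ⟨hidx, horb⟩ := S.exists_map e _ (map_subH e he)
  refine ⟨hidx.trans (by rw [Nat.card_fin]; rfl), fun n hn => ?_⟩
  rcases List.mem_cons.1 hn with rfl | hn
  · obtain ⟨q, hq⟩ := horb 2; exact ⟨q, hq.trans h2⟩
  · rw [List.mem_singleton.1 hn]
    obtain ⟨q, hq⟩ := horb 1; exact ⟨q, hq.trans h1⟩

end CfsgLib.Spor.Fi22
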